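import Mathlib
import Groth.Agent.HopfLib.Slices

/-!
# Base change of slices, adic closeness in free modules, finite left coideals
-/

universe u

open TensorProduct

namespace Groth.Agent.LRTriv

open Groth.Agent.HopfLib

section Module

variable {A : Type u} [CommRing A] {I : Ideal A}

theorem map_mem_smul_top {M N : Type*} [AddCommGroup M] [Module A M] [AddCommGroup N] [Module A N]
    (f : M →ₗ[A] N) {J : Ideal A} {x : M} (hx : x ∈ J • (⊤ : Submodule A M)) :
    f x ∈ J • (⊤ : Submodule A N) := by
  have := Submodule.mem_map_of_mem (f := f) hx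
  rw [Submodule.map_smul''] at this
  exact Submodule.smul_mono le_rfl le_top this

theorem tmul_mem_smul_top_left {M N : Type*} [AddCommGroup M] [Module A M] [AddCommGroup N]
    [Module A N] {J : Ideal A} {x : M} (hx : x ∈ J • (⊤ : Submodule A M)) (y : N) :
    x ⊗ₜ[A] y ∈ J • (⊤ : Submodule A (M ⊗[A] N)) :=
  map_mem_smul_top ((TensorProduct.mk A M N).flip y) hx

theorem tmul_mem_smul_top_right {M N : Type*} [AddCommGroup M] [Module A M] [AddCommGroup N]
    [Module A N] {J : Ideal A} (x : M) {y : N} (hy : y ∈ J • (⊤ : Submodule A N)) :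
    x ⊗ₜ[A] y ∈ J • (⊤ : Submodule A (M ⊗[A] N)) :=
  map_mem_smul_top (TensorProduct.mk A M N x) hy

theorem mem_of_mem_smul_top_self {J : Ideal A} {a : A} (ha : a ∈ J • (⊤ : Submodule A A)) :
    a ∈ J := by
  simpa using ha

theorem smul_mem_pow_succ {M : Type*} [AddCommGroup M] [Module A M] {a : A} (ha : a ∈ I) {n : ℕ}
    {x : M} (hx : x ∈ I ^ n • (⊤ : Submodule A M)) : a • x ∈ I ^ (n + 1) • (⊤ : Submodule A M) := by
  rw [pow_succ', ← smul_eq_mul, Submodule.smul_assoc]
  exact Submodule.smul_mem_smul ha hx

theorem one_tmul_eq_zero_iff' {M : Type*} [AddCommGroup M] [Module A M] (J : Ideal A) (x : M) :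
    ((1 : A ⧸ J) ⊗ₜ[A] x) = 0 ↔ x ∈ J • (⊤ : Submodule A M) := by
  rw [← (TensorProduct.quotTensorEquivQuotSMul M J).map_eq_zero_iff, ← Submodule.Quotient.mk_eq_zero]
  rw [show (1 : A ⧸ J) = Ideal.Quotient.mk J (1 : A) from rfl,
    TensorProduct.quotTensorEquivQuotSMul_mk_tmul, one_smul]

theorem one_tmul_eq_iff' {M : Type*} [AddCommGroup M] [Module A M] (J : Ideal A) (x y : M) :
    ((1 : A ⧸ J) ⊗ₜ[A] x) = (1 : A ⧸ J) ⊗ₜ[A] y ↔ x - y ∈ J • (⊤ : Submodule A M) := by
  rw [← one_tmul_eq_zero_iff', TensorProduct.tmul_sub, sub_eq_zero]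

theorem eq_of_forall_sub_mem [IsHausdorff I A] {M : Type*} [AddCommGroup M] [Module A M]
    [Module.Free A M] {x y : M} (h : ∀ n : ℕ, x - y ∈ I ^ n • (⊤ : Submodule A M)) : x = y := by
  let e := Module.Free.chooseBasis A M
  refine e.ext_elem fun i => ?_
  refine sub_eq_zero.1 (IsHausdorff.haus ‹IsHausdorff I A› _ fun n => ?_)
  rw [SModEq.zero, ← Finsupp.sub_apply, ← map_sub]
  exact map_mem_smul_top (e.coord i) (h n)

/-- Finitely many elements of a flat coalgebra over a Noetherian ring lie in a finitely generated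
left coideal. -/
theorem exists_leftCoideal [IsNoetherianRing A] {B : Type u} [AddCommGroup B] [Module A B]
    [Coalgebra A B] [Module.Flat A B] (b : B) :
    ∃ (m : ℕ) (w : Fin m → B) (x : Fin m → Fin m → B),
      b ∈ Submodule.span A (Set.range w) ∧
        ∀ j, Coalgebra.comul (R := A) (w j) = ∑ i, x j i ⊗ₜ[A] w i := by
  obtain ⟨M, hM, hbM⟩ : ∃ M : Submodule A B, M.FG ∧
      Coalgebra.comul (R := A) b ∈ LinearMap.range (M.subtype.lTensor B) := by
    induction Coalgebra.comul (R := A) b using TensorProduct.induction_on with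
    | zero => exact ⟨⊥, Submodule.fg_bot, zero_mem _⟩
    | tmul p q => exact ⟨Submodule.span A {q}, Submodule.fg_span_singleton q,
        ⟨p ⊗ₜ ⟨q, Submodule.mem_span_singleton_self q⟩, rfl⟩⟩
    | add p q hp hq =>
      obtain ⟨M, hM, s, rfl⟩ := hp
      obtain ⟨M', hM', t, rfl⟩ := hq
      refine ⟨M ⊔ M', hM.sup hM', add_mem ?_ ?_⟩
      · refine ⟨(Submodule.inclusion (le_sup_left : M ≤ M ⊔ M')).lTensor B s, ?_⟩
        rw [← LinearMap.lTensor_comp_apply, Submodule.subtype_comp_inclusion]
      · refine ⟨(Submodule.inclusion (le_sup_right : M' ≤ M ⊔ M')).lTensor B t, ?_⟩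
        rw [← LinearMap.lTensor_comp_apply, Submodule.subtype_comp_inclusion]
  let g : B →ₗ[A] B ⊗[A] (B ⧸ M) := M.mkQ.lTensor B ∘ₗ Coalgebra.comul
  let W := LinearMap.ker g
  have hb : b ∈ W := by
    obtain ⟨t, ht⟩ := hbM
    show M.mkQ.lTensor B (Coalgebra.comul (R := A) b) = 0
    rw [← ht, ← LinearMap.lTensor_comp_apply]
    have : M.mkQ ∘ₗ M.subtype = 0 := by ext a; simp
    rw [this]; simp
  have hWM : W ≤ M := fun x hx => by
    have h : ∀ t : B ⊗[A] B, M.mkQ (TensorProduct.lid A B ((Coalgebra.counit (R := A)).rTensor B t)) =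
        TensorProduct.lid A (B ⧸ M) ((Coalgebra.counit (R := A)).rTensor (B ⧸ M) (M.mkQ.lTensor B t)) := by
      intro t
      induction t using TensorProduct.induction_on with
      | zero => simp
      | add p q hp hq => simp only [map_add, hp, hq]
      | tmul p q => simp
    have := h (Coalgebra.comul (R := A) x)
    rw [show M.mkQ.lTensor B (Coalgebra.comul (R := A) x) = 0 from hx,
      Coalgebra.rTensor_counit_comul] at this
    simp only [map_zero, TensorProduct.lid_tmul, one_smul] at this
    exact (Submodule.Quotient.mk_eq_zero M).1 this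
  have hWB : ∀ w ∈ W, Coalgebra.comul (R := A) w ∈ LinearMap.range (W.subtype.lTensor B) := by
    intro w hw
    have hex : Function.Exact W.subtype g := LinearMap.exact_subtype_ker_map g
    refine (Module.Flat.lTensor_exact B hex _).1 ?_
    have h1 : ∀ t : B ⊗[A] B, g.lTensor B t =
        (M.mkQ.lTensor B).lTensor B ((Coalgebra.comul (R := A) (A := B)).lTensor B t) := fun t => by
      rw [← LinearMap.lTensor_comp_apply]
    have h2 : ∀ t : B ⊗[A] B,
        (M.mkQ.lTensor B).lTensor B (TensorProduct.assoc A B B B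
          ((Coalgebra.comul (R := A) (A := B)).rTensor B t)) =
        TensorProduct.assoc A B B (B ⧸ M)
          ((Coalgebra.comul (R := A) (A := B)).rTensor (B ⧸ M) (M.mkQ.lTensor B t)) := by
      intro t
      induction t using TensorProduct.induction_on with
      | zero => simp
      | add p q hp hq => simp only [map_add, hp, hq]
      | tmul p q =>
        simp only [LinearMap.rTensor_tmul, LinearMap.lTensor_tmul]
        generalize Coalgebra.comul (R := A) p = s
        induction s using TensorProduct.induction_on with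
        | zero => simp
        | add a c ha hc => simp only [map_add, TensorProduct.add_tmul, ha, hc]
        | tmul a c => simp
    rw [h1, ← Coalgebra.coassoc_apply, h2,
      show M.mkQ.lTensor B (Coalgebra.comul (R := A) w) = 0 from hw]
    simp
  have hWfg : W.FG := by
    have : Module.Finite A M := Module.Finite.iff_fg.2 hM
    have : IsNoetherian A M := isNoetherian_of_isNoetherianRing_of_finite A M
    exact isNoetherian_submodule.1 this W hWM
  obtain ⟨m, w, hw⟩ := Submodule.fg_iff_exists_fin_generating_family.1 hWfg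
  have hx : ∀ j, ∃ x : Fin m → B, Coalgebra.comul (R := A) (w j) = ∑ i, x i ⊗ₜ[A] w i := by
    intro j
    obtain ⟨t, ht⟩ := hWB (w j) (hw ▸ Submodule.subset_span ⟨j, rfl⟩)
    rw [← ht]
    clear ht
    induction t using TensorProduct.induction_on with
    | zero => exact ⟨0, by simp⟩
    | add p q hp hq =>
      obtain ⟨x, hx⟩ := hp
      obtain ⟨y, hy⟩ := hq
      exact ⟨x + y, by simp [map_add, hx, hy, TensorProduct.add_tmul, Finset.sum_add_distrib]⟩
    | tmul p q =>
      obtain ⟨r, hr⟩ := (Submodule.mem_span_range_iff_exists_fun A).1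
        (show (q : B) ∈ Submodule.span A (Set.range w) by rw [hw]; exact q.2)
      refine ⟨fun i => r i • p, ?_⟩
      simp [← hr, TensorProduct.tmul_sum, TensorProduct.smul_tmul]
  choose x hx using hx
  exact ⟨m, w, x, hw ▸ hb, hx⟩

end Module

section BaseChange

variable {L : Type u} [CommRing L] {A : Type u} [CommRing A] [Algebra L A]
  {H : Type u} [CommRing H] [Bialgebra L H]

/-- The base change of a linear form. -/
noncomputable def formBC (f : H →ₗ[L] L) : A ⊗[L] H →ₗ[A] A :=
  (AlgebraTensorModule.rid L A A).toLinearMap ∘ₗ f.baseChange A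

theorem formBC_tmul (f : H →ₗ[L] L) (a : A) (h : H) : formBC f (a ⊗ₜ h) = f h • a := by
  simp [formBC]

theorem sliceL_formBC (f : H →ₗ[L] L) (y : A ⊗[L] H) :
    sliceL (formBC f) (Coalgebra.comul (R := A) y) =
      (sliceL f ∘ₗ Coalgebra.comul (R := L) (A := H)).baseChange A y := by
  induction y using TensorProduct.induction_on with
  | zero => simp
  | add p q hp hq => simp only [map_add, hp, hq]
  | tmul a h =>
    rw [TensorProduct.comul_tmul, LinearMap.baseChange_tmul, LinearMap.comp_apply]
    generalize Coalgebra.comul (R := L) h = t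
    induction t using TensorProduct.induction_on with
    | zero => simp
    | add p q hp hq => simp only [TensorProduct.tmul_add, map_add, hp, hq]
    | tmul p q =>
      rw [CommSemiring.comul_apply, AlgebraTensorModule.tensorTensorTensorComm_tmul, sliceL_tmul,
        formBC_tmul, sliceL_tmul, TensorProduct.smul_tmul', smul_eq_mul, smul_mul_assoc, one_mul,
        TensorProduct.smul_tmul]

theorem sliceR_formBC (f : H →ₗ[L] L) (hf : ∀ a, sliceR f (Coalgebra.comul (R := L) a) = f a • (1 : H))
    (y : A ⊗[L] H) :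
    sliceR (formBC f) (Coalgebra.comul (R := A) y) = algebraMap A (A ⊗[L] H) (formBC f y) := by
  induction y using TensorProduct.induction_on with
  | zero => simp
  | add p q hp hq => simp only [map_add, hp, hq]
  | tmul a h =>
    have key : ∀ t : H ⊗[L] H,
        sliceR (formBC (A := A) f) (TensorProduct.AlgebraTensorModule.tensorTensorTensorComm L A L A A A H H
          (((1 : A) ⊗ₜ[A] a) ⊗ₜ[L] t)) = a ⊗ₜ[L] sliceR f t := by
      intro t
      induction t using TensorProduct.induction_on with
      | zero => simp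
      | add p q hp hq => simp only [TensorProduct.tmul_add, map_add, hp, hq]
      | tmul p q =>
        rw [AlgebraTensorModule.tensorTensorTensorComm_tmul, sliceR_tmul, formBC_tmul, sliceR_tmul,
          TensorProduct.smul_tmul', smul_eq_mul, mul_one, TensorProduct.smul_tmul]
    rw [TensorProduct.comul_tmul, CommSemiring.comul_apply, key, hf, formBC_tmul,
      Algebra.TensorProduct.algebraMap_apply]
    simp [TensorProduct.smul_tmul]

end BaseChange

end Groth.Agent.LRTriv
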