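import Mathlib
import Groth.Agent.SGA3bLib.MonoDiag

/-!
# A closed subgroup which is open at the identity, of a connected group, is the whole group
-/

universe u

open TensorProduct Coalgebra

namespace Groth.Agent.LRTriv

variable {k : Type u} [CommRing k] {B : Type u} [CommRing B] [HopfAlgebra k B]
  {G : Type u} [CommRing G] [HopfAlgebra k G]

/-- Right translation by a point. -/
noncomputable def transl (g : B →ₐ[k] k) : B →ₐ[k] B :=
  ((Algebra.TensorProduct.rid k k B).toAlgHom.comp (Algebra.TensorProduct.map (AlgHom.id k B) g)).comp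
    (Bialgebra.comulAlgHom k B)

theorem transl_apply (g : B →ₐ[k] k) (x : B) :
    transl g x = TensorProduct.rid k B (g.toLinearMap.lTensor B (comul (R := k) x)) := rfl

theorem transl_counit (x : B) : transl (Bialgebra.counitAlgHom k B) x = x := by
  rw [transl_apply, show (Bialgebra.counitAlgHom k B).toLinearMap = (counit (R := k) (A := B)) from rfl,
    Coalgebra.lTensor_counit_comul]
  simp

theorem counit_transl (g : B →ₐ[k] k) (x : B) : counit (R := k) (transl g x) = g x := by
  rw [transl_apply]
  have h : ∀ t : B ⊗[k] B, counit (R := k) (TensorProduct.rid k B (g.toLinearMap.lTensor B t)) =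
      g (TensorProduct.lid k B ((counit (R := k) (A := B)).rTensor B t)) := by
    intro t
    induction t using TensorProduct.induction_on with
    | zero => simp
    | add a b ha hb => simp only [map_add, ha, hb]
    | tmul a b => simp [mul_comm]
  rw [h, Coalgebra.rTensor_counit_comul]
  simp

/-- Translations compose by convolution. -/
theorem transl_transl (g h : B →ₐ[k] k) (x : B) :
    transl g (transl h x) = transl ((WithConv.toConv g * WithConv.toConv h).ofConv) x := by
  rw [transl_apply h, transl_apply ((WithConv.toConv g * WithConv.toConv h).ofConv)]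
  let U : B ⊗[k] (B ⊗[k] B) →ₗ[k] B := (TensorProduct.rid k B).toLinearMap ∘ₗ
    ((LinearMap.mul' k k) ∘ₗ TensorProduct.map g.toLinearMap h.toLinearMap).lTensor B
  have h1 : ∀ t : B ⊗[k] B, transl g (TensorProduct.rid k B (h.toLinearMap.lTensor B t)) =
      U (TensorProduct.assoc k B B B ((comul (R := k) (A := B)).rTensor B t)) := by
    intro t
    induction t using TensorProduct.induction_on with
    | zero => simp
    | add a b ha hb => simp only [map_add, ha, hb]
    | tmul a b =>
      simp only [LinearMap.lTensor_tmul, AlgHom.toLinearMap_apply, TensorProduct.rid_tmul, map_smul,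
        LinearMap.rTensor_tmul, transl_apply]
      generalize comul (R := k) a = s
      induction s using TensorProduct.induction_on with
      | zero => simp
      | add p q hp hq => simp only [map_add, TensorProduct.add_tmul, smul_add, hp, hq]
      | tmul p q => simp [U, smul_smul, mul_comm]
  rw [h1, Coalgebra.coassoc_apply]
  simp only [U, LinearMap.comp_apply, LinearEquiv.coe_coe]
  rw [← LinearMap.lTensor_comp_apply]
  congr 2

theorem map_comul (φ : B →ₐc[k] G) (x : B) :
    comul (R := k) (φ x) = TensorProduct.map φ.toLinearMap φ.toLinearMap (comul (R := k) x) :=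
  (CoalgHomClass.map_comp_comul_apply φ x).symm

/-- Translations by points of the subgroup preserve its ideal. -/
theorem transl_mem_ker (φ : B →ₐc[k] G) (g₀ : G →ₐ[k] k) {x : B} (hx : φ x = 0) :
    φ (transl (g₀.comp (φ : B →ₐ[k] G)) x) = 0 := by
  have h : ∀ t : B ⊗[k] B, φ (TensorProduct.rid k B ((g₀.comp (φ : B →ₐ[k] G)).toLinearMap.lTensor B t)) =
      TensorProduct.rid k G (g₀.toLinearMap.lTensor G (TensorProduct.map φ.toLinearMap φ.toLinearMap t)) := by
    intro t
    induction t using TensorProduct.induction_on with
    | zero => simp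
    | add a b ha hb => simp only [map_add, ha, hb]
    | tmul a b =>
      simp only [LinearMap.lTensor_tmul, TensorProduct.rid_tmul, map_smul, TensorProduct.map_tmul]
      rfl
  rw [transl_apply, h, ← map_comul, hx]
  simp

section Field

variable {k : Type u} [Field k] [IsAlgClosed k] {B : Type u} [CommRing B] [HopfAlgebra k B]
  [Algebra.FiniteType k B] {G : Type u} [CommRing G] [HopfAlgebra k G]

/-- If a closed subgroup of a connected group of finite type over an algebraically closed field is
open at the identity, it is the whole group. -/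
theorem injective_of_connected (hconn : ConnectedSpace (PrimeSpectrum B)) (φ : B →ₐc[k] G)
    (hφ : Function.Surjective φ) (s : B) (hs : counit (R := k) s ≠ 0)
    (hsK : ∀ x, φ x = 0 → s * x = 0) : Function.Injective φ := by
  classical
  let K : Ideal B := RingHom.ker (φ : B →ₐ[k] G)
  let N : Ideal B := K.annihilator
  have hsum : K ⊔ N = ⊤ := by
    by_contra hne
    obtain ⟨M, hM, hle⟩ := Ideal.exists_le_maximal _ hne
    let := Ideal.Quotient.field M
    have : Algebra.FiniteType k (B ⧸ M) := Algebra.FiniteType.trans (S := B) ‹_› inferInstance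
    have : Module.Finite k (B ⧸ M) := finite_of_finite_type_of_isJacobsonRing k (B ⧸ M)
    have : Algebra.IsIntegral k (B ⧸ M) := Algebra.IsIntegral.of_finite k _
    have hbij := IsAlgClosed.algebraMap_bijective_of_isIntegral (k := k) (K := B ⧸ M)
    let g : B →ₐ[k] k :=
      ((AlgEquiv.ofBijective (Algebra.ofId k (B ⧸ M)) hbij).symm : (B ⧸ M) →ₐ[k] k).comp
        (Ideal.Quotient.mkₐ k M)
    have hgM : ∀ x, g x = 0 ↔ x ∈ M := fun x => by
      simp [g, Ideal.Quotient.eq_zero_iff_mem]
    let g₀ : G →ₐ[k] k := AlgHom.liftOfSurjective (φ : B →ₐ[k] G) hφ g fun x hx =>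
      (hgM x).2 (hle (Ideal.mem_sup_left hx))
    have hg : g₀.comp (φ : B →ₐ[k] G) = g := AlgHom.liftOfSurjective_comp ..
    let g₁ : G →ₐ[k] k := g₀.comp (HopfAlgebra.antipodeAlgHom k G)
    let g' : B →ₐ[k] k := g.comp (HopfAlgebra.antipodeAlgHom k B)
    have hg' : g₁.comp (φ : B →ₐ[k] G) = g' := by
      ext x
      simp only [g₁, g', ← hg, AlgHom.comp_apply]
      congr 1
      exact (SGA3bLib.map_antipode φ x).symm
    have hinv : (WithConv.toConv g' * WithConv.toConv g).ofConv = Bialgebra.counitAlgHom k B := by
      have h1 : WithConv.toConv g' = (WithConv.toConv g)⁻¹ := rfl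
      rw [h1, inv_mul_cancel]
      rfl
    let t : B := transl g' s
    have ht : g t ≠ 0 := by
      have hinv' : (WithConv.toConv g * WithConv.toConv g').ofConv = Bialgebra.counitAlgHom k B := by
        rw [show WithConv.toConv g' = (WithConv.toConv g)⁻¹ from rfl, mul_inv_cancel]
        rfl
      rwa [← counit_transl g t, transl_transl, hinv', transl_counit]
    refine ht ((hgM t).2 (hle (Ideal.mem_sup_right ?_)))
    rw [Submodule.mem_annihilator]
    intro y hy
    have hy' : transl g y ∈ K := by
      rw [← hg]; exact transl_mem_ker φ g₀ hy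
    have : transl g' (s * transl g y) = t * y := by
      rw [map_mul, transl_transl, hinv, transl_counit]
    rw [smul_eq_mul, ← this, hsK _ hy', map_zero]
  obtain ⟨x, hx, a, ha, hxa⟩ := Submodule.mem_sup.1 ((Ideal.eq_top_iff_one _).1 hsum)
  have hax : ∀ y ∈ K, a * y = 0 := fun y hy => (Submodule.mem_annihilator.1 ha) y hy
  have hxx : IsIdempotentElem x := by
    have := hax x hx
    calc x * x = (x + a) * x := by rw [add_mul, this, add_zero]
      _ = x := by rw [hxa, one_mul]
  have hKx : ∀ y ∈ K, y = x * y := fun y hy => by
    calc y = (x + a) * y := by rw [hxa, one_mul]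
      _ = x * y := by rw [add_mul, hax y hy, add_zero]
  have hclopen : IsClopen (PrimeSpectrum.basicOpen x : Set (PrimeSpectrum B)) :=
    PrimeSpectrum.isClopen_basicOpen_of_mul_add x (1 - x) (by rw [mul_sub, mul_one, hxx, sub_self]) (by ring)
  have hx01 : x = 0 ∨ x = 1 := by
    rcases isClopen_iff.1 hclopen with h | h
    · exact Or.inl (PrimeSpectrum.basicOpen_injOn_isIdempotentElem hxx IsIdempotentElem.zero
        (TopologicalSpace.Opens.ext (h.trans (by simp))))
    · exact Or.inr (PrimeSpectrum.basicOpen_injOn_isIdempotentElem hxx IsIdempotentElem.one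
        (TopologicalSpace.Opens.ext (h.trans (by simp))))
  refine (injective_iff_map_eq_zero φ).2 fun y hy => ?_
  rcases hx01 with rfl | rfl
  · rw [hKx y hy, zero_mul]
  · exfalso
    have := congrArg (counit (R := k)) (show (φ 1 : G) = 0 from hx)
    simp at this

end Field

end Groth.Agent.LRTriv
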