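import Groth.Agent.LRTriv.Lift
import Groth.Agent.LRTriv.Translate

/-!
# A homomorphism which is an isomorphism on the closed fibre is an isomorphism
-/

universe u

open TensorProduct HopfRep

namespace Groth.Agent.LRTriv

open Groth.Agent.HopfLib

variable {A : Type u} [CommRing A] [IsNoetherianRing A] {I : Ideal A} {L : Type u} [Field L]
  [Algebra L A] {B : Type u} [CommRing B] [HopfAlgebra A B] {H : Type u} [CommRing H]
  [HopfAlgebra L H]

theorem surjective_of_mod (hI : I ≤ Ideal.jacobson ⊥) (hlr : IsLinearlyReductive L H)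
    (φ : B →ₐc[A] A ⊗[L] H)
    (hmod : ∀ y, ∃ c, y - φ c ∈ I • (⊤ : Submodule A (A ⊗[L] H))) : Function.Surjective φ := by
  let R : Submodule A (A ⊗[L] H) := LinearMap.range (φ : B →ₐ[A] A ⊗[L] H).toLinearMap
  suffices h : ∀ h : H, (1 : A) ⊗ₜ[L] h ∈ R by
    intro y
    suffices hy : y ∈ R from hy
    induction y using TensorProduct.induction_on with
    | zero => exact zero_mem _
    | add p q hp hq => exact add_mem hp hq
    | tmul a h' =>
      rw [show a ⊗ₜ[L] h' = a • ((1 : A) ⊗ₜ[L] h') by rw [TensorProduct.smul_tmul', smul_eq_mul, mul_one]]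
      exact R.smul_mem a (h h')
  intro h
  obtain ⟨u, hfg, -, -, hu⟩ := exists_proj hlr {h} (Set.finite_singleton h)
  set p := sliceL u ∘ₗ Coalgebra.comul (R := L) (A := H) with hp
  let P := p.baseChange A
  have hφR : ∀ c, P (φ c) ∈ R := fun c => by
    rw [show P (φ c) = sliceL (formBC (A := A) u) (Coalgebra.comul (R := A) (φ c)) from
      (sliceL_formBC u (φ c)).symm, map_comul]
    generalize Coalgebra.comul (R := A) c = t
    induction t using TensorProduct.induction_on with
    | zero => simp
    | add a b ha hb => simpa only [map_add] using add_mem ha hb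
    | tmul a b =>
      rw [TensorProduct.map_tmul, sliceL_tmul]
      exact R.smul_mem _ ⟨b, rfl⟩
  have hPfg : (LinearMap.range P).FG := by
    have : Module.Finite L (LinearMap.range p) := Module.Finite.iff_fg.2 hfg
    let ι : A ⊗[L] (LinearMap.range p) →ₗ[A] A ⊗[L] H := (LinearMap.range p).subtype.baseChange A
    have hle : LinearMap.range P ≤ LinearMap.range ι := by
      rintro _ ⟨y, rfl⟩
      refine ⟨p.rangeRestrict.baseChange A y, ?_⟩
      rw [← LinearMap.comp_apply, ← LinearMap.baseChange_comp]
      rfl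
    exact isNoetherian_submodule.1 inferInstance _ hle
  have hle : LinearMap.range P ≤ R ⊔ I • LinearMap.range P := by
    rintro _ ⟨y, rfl⟩
    obtain ⟨c, hc⟩ := hmod y
    have h1 := Submodule.mem_map_of_mem (f := P) hc
    rw [Submodule.map_smul'', Submodule.map_top, map_sub] at h1
    exact Submodule.mem_sup.2 ⟨P (φ c), hφR c, P y - P (φ c), h1, by abel⟩
  refine Submodule.le_of_le_smul_of_le_jacobson_bot hPfg hI hle ⟨(1 : A) ⊗ₜ[L] h, ?_⟩
  show (1 : A) ⊗ₜ[L] p h = _
  rw [show p h = h from hu h rfl]

set_option maxHeartbeats 1000000 in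
theorem injective_of_mod (hI : I ≤ Ideal.jacobson ⊥) [Algebra.FiniteType A B]
    (hconn : ∀ (Ω : Type u) [Field Ω] [IsAlgClosed Ω] [Algebra A Ω],
      ConnectedSpace (PrimeSpectrum (Ω ⊗[A] B)))
    (φ : B →ₐc[A] A ⊗[L] H) (hφ : Function.Surjective φ)
    (hker : ∀ c, φ c = 0 → c ∈ I • (⊤ : Submodule A B)) : Function.Injective φ := by
  classical
  have : IsNoetherianRing B := Algebra.FiniteType.isNoetherianRing A B
  let φl : B →ₗ[A] A ⊗[L] H := (φ : B →ₐ[A] A ⊗[L] H).toLinearMap
  obtain ⟨σ, hσ⟩ := Module.projective_lifting_property φl LinearMap.id hφ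
  have hσ' : ∀ y, φ (σ y) = y := fun y => LinearMap.congr_fun hσ y
  let K : Ideal B := RingHom.ker (φ : B →ₐ[A] A ⊗[L] H)
  let r : B →ₗ[A] B := LinearMap.id - σ ∘ₗ φl
  have hrK : ∀ x, r x ∈ K := fun x => by
    show φ (x - σ (φ x)) = 0
    rw [map_sub, hσ', sub_self]
  have hrx : ∀ x ∈ K, r x = x := fun x hx => by
    show x - σ (φ x) = x
    rw [show φ x = 0 from hx, map_zero, sub_zero]
  let J : Ideal B := I.map (algebraMap A B)
  have hKJ : K ≤ J • K := fun x hx => by
    rw [← hrx x hx]
    refine Submodule.smul_induction_on (p := fun z => r z ∈ J • K) (hker x hx) (fun a ha z _ => ?_)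
      fun z z' hz hz' => by rw [map_add]; exact add_mem hz hz'
    rw [map_smul, ← algebraMap_smul B a (r z)]
    exact Submodule.smul_mem_smul (Ideal.mem_map_of_mem (algebraMap A B) ha) (hrK z)
  obtain ⟨r₀, hr₀, hr₀K⟩ := Submodule.exists_sub_one_mem_and_smul_eq_zero_of_fg_of_le_smul J K
    (IsNoetherian.noetherian K) hKJ
  have hεunit : IsUnit (Coalgebra.counit (R := A) r₀) := by
    have h := mem_of_mem_smul_top_self
      (map_mem_smul_top (Coalgebra.counit (R := A) (A := B)) ((mem_smul_top_iff_map I _).2 hr₀))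
    rw [map_sub, Bialgebra.counit_one] at h
    exact Ideal.isUnit_of_sub_one_mem_jacobson_bot _ (hI h)
  have hann : K.annihilator = ⊤ := by
    by_contra hne
    obtain ⟨q, hq, hle⟩ := Ideal.exists_le_maximal _ hne
    suffices hKq : K ≤ q • K by
      obtain ⟨r₁, hr₁, hr₁K⟩ := Submodule.exists_sub_one_mem_and_smul_eq_zero_of_fg_of_le_smul q K
        (IsNoetherian.noetherian K) hKq
      have h1 : r₁ ∈ q := hle (Submodule.mem_annihilator.2 hr₁K)
      exact hq.ne_top ((Ideal.eq_top_iff_one _).2 (by simpa using q.sub_mem h1 hr₁))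
    let := Ideal.Quotient.field q
    intro x hx
    by_contra hxq
    let mk := (q • (⊤ : Submodule B K)).mkQ
    have hne0 : mk ⟨x, hx⟩ ≠ 0 := fun h0 => by
      apply hxq
      have h1 : (⟨x, hx⟩ : K) ∈ q • (⊤ : Submodule B K) := (Submodule.Quotient.mk_eq_zero _).1 h0
      have h2 := Submodule.mem_map_of_mem (f := K.subtype) h1
      rwa [Submodule.map_smul'', Submodule.map_top, Submodule.range_subtype] at h2
    obtain ⟨f, hf⟩ := not_forall.1 fun h =>
      hne0 ((Module.forall_dual_apply_eq_zero_iff (B ⧸ q) _).1 h)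
    let Ω := AlgebraicClosure (B ⧸ q)
    let lam : K →ₗ[A] Ω :=
      { toFun := fun k => algebraMap (B ⧸ q) Ω (f (mk k))
        map_add' := fun a b => by simp
        map_smul' := fun a k => by
          rw [RingHom.id_apply, ← algebraMap_smul B a k, map_smul, ← algebraMap_smul (B ⧸ q) (algebraMap A B a),
            map_smul, smul_eq_mul, map_mul, Ideal.Quotient.algebraMap_eq, Algebra.smul_def,
            IsScalarTower.algebraMap_apply A (B ⧸ q) Ω, IsScalarTower.algebraMap_apply A B (B ⧸ q),
            Ideal.Quotient.algebraMap_eq] }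
    let φΩ : Ω ⊗[A] B →ₐc[Ω] Ω ⊗[A] (A ⊗[L] H) := SGA3bLib.bcHom Ω φ
    have hφΩl : ∀ z, φΩ z = φl.baseChange Ω z := fun z => by
      induction z using TensorProduct.induction_on with
      | zero => simp
      | add a b ha hb => simp only [map_add, ha, hb]
      | tmul a b => rfl
    have hsur : Function.Surjective φΩ := fun y =>
      ⟨σ.baseChange Ω y, by
        rw [hφΩl, ← LinearMap.comp_apply, ← LinearMap.baseChange_comp, hσ, LinearMap.baseChange_id]
        rfl⟩
    have hinj : Function.Injective φΩ := by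
      refine injective_of_connected (hconn Ω) φΩ hsur ((1 : Ω) ⊗ₜ r₀) ?_ fun z hz => ?_
      · rw [TensorProduct.counit_tmul, CommSemiring.counit_apply, Algebra.smul_def, mul_one]
        exact (hεunit.map (algebraMap A Ω)).ne_zero
      · have hz' : r.baseChange Ω z = z := by
          simp only [r, LinearMap.baseChange_sub, LinearMap.baseChange_id, LinearMap.baseChange_comp,
            LinearMap.sub_apply, LinearMap.comp_apply, LinearMap.id_apply, ← hφΩl, hz, map_zero,
            sub_zero]
        rw [← hz']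
        clear hz hz'
        induction z using TensorProduct.induction_on with
        | zero => simp
        | add a b ha hb => rw [map_add, mul_add, ha, hb, add_zero]
        | tmul a b =>
          rw [LinearMap.baseChange_tmul, Algebra.TensorProduct.tmul_mul_tmul]
          rw [show r₀ * r b = 0 from hr₀K _ (hrK b), TensorProduct.tmul_zero]
    have hx0 : (1 : Ω) ⊗ₜ[A] x = 0 := hinj (by
      rw [map_zero, hφΩl, LinearMap.baseChange_tmul]
      rw [show φl x = 0 from hx, TensorProduct.tmul_zero])
    let rK : B →ₗ[A] K := r.codRestrict (K.restrictScalars A) hrK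
    have hx1 : (1 : Ω) ⊗ₜ[A] (⟨x, hx⟩ : K) = 0 := by
      have := congrArg (rK.baseChange Ω) hx0
      rw [map_zero, LinearMap.baseChange_tmul,
        show rK x = ⟨x, hx⟩ from Subtype.ext (hrx x hx)] at this
      exact this
    have h0 := congrArg (LinearMap.mul' A Ω ∘ₗ lam.lTensor Ω) hx1
    rw [map_zero, LinearMap.comp_apply, LinearMap.lTensor_tmul, LinearMap.mul'_apply, one_mul] at h0
    exact hf ((map_eq_zero (algebraMap (B ⧸ q) Ω)).1 h0)
  refine (injective_iff_map_eq_zero φ).2 fun x hx => ?_
  have h1 : (1 : B) ∈ K.annihilator := by rw [hann]; trivial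
  simpa using Submodule.mem_annihilator.1 h1 x hx

end Groth.Agent.LRTriv
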