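import Groth.Agent.LRTriv.Basic
import Groth.Agent.LRTriv.Proj
import Groth.Agent.IsoTriv.SmoothLift

/-!
# Lifting the closed fibre of a smooth group with linearly reductive closed fibre
-/

universe u

open TensorProduct HopfRep

namespace Groth.Agent.LRTriv

open Groth.Agent.HopfLib

variable {A : Type u} [CommRing A] (I : Ideal A) {L : Type u} [Field L] [Algebra L A]
  {B : Type u} [CommRing B] [HopfAlgebra A B] {H : Type u} [CommRing H] [HopfAlgebra L H]

/-- Compatible approximate homomorphisms on all levels. -/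
structure Levels (b : ℕ → B → A ⊗[L] H) (π : B → H) : Prop where
  add : ∀ n x y, b n (x + y) - (b n x + b n y) ∈ I ^ (n + 1) • (⊤ : Submodule A (A ⊗[L] H))
  smul : ∀ n (r : A) x, b n (r • x) - r • b n x ∈ I ^ (n + 1) • (⊤ : Submodule A (A ⊗[L] H))
  mul : ∀ n x y, b n (x * y) - b n x * b n y ∈ I ^ (n + 1) • (⊤ : Submodule A (A ⊗[L] H))
  one : ∀ n, b n 1 - 1 ∈ I ^ (n + 1) • (⊤ : Submodule A (A ⊗[L] H))
  comul : ∀ n {ι : Type u} (s : Finset ι) (x y : ι → B) c,
    Coalgebra.comul (R := A) c = ∑ i ∈ s, x i ⊗ₜ[A] y i →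
    Coalgebra.comul (R := A) (b n c) - ∑ i ∈ s, b n (x i) ⊗ₜ[A] b n (y i) ∈
      I ^ (n + 1) • (⊤ : Submodule A ((A ⊗[L] H) ⊗[A] (A ⊗[L] H)))
  counit : ∀ n c, Coalgebra.counit (R := A) (b n c) - Coalgebra.counit (R := A) c ∈ I ^ (n + 1)
  step : ∀ n c, b (n + 1) c - b n c ∈ I ^ (n + 1) • (⊤ : Submodule A (A ⊗[L] H))
  base : ∀ c, b 0 c - (1 : A) ⊗ₜ[L] π c ∈ I • (⊤ : Submodule A (A ⊗[L] H))

theorem mem_smul_top_iff_map {G : Type*} [CommRing G] [Algebra A G] (J : Ideal A) (x : G) :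
    x ∈ J • (⊤ : Submodule A G) ↔ x ∈ J.map (algebraMap A G) := by
  rw [Ideal.smul_top_eq_map, Submodule.restrictScalars_mem]

set_option maxHeartbeats 1000000 in
set_option synthInstance.maxHeartbeats 400000 in
/-- The levels exist. -/
theorem exists_levels [Algebra.FormallySmooth A B] (hlr : IsLinearlyReductive L H) (π : B → H)
    (φ₀ : (A ⧸ I) ⊗[A] B →ₐc[A ⧸ I] (A ⧸ I) ⊗[A] (A ⊗[L] H))
    (hφ₀ : ∀ c, φ₀ (1 ⊗ₜ[A] c) = 1 ⊗ₜ[A] ((1 : A) ⊗ₜ[L] π c)) :
    ∃ b : ℕ → B → A ⊗[L] H, Levels I b π := by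
  obtain ⟨α, hα1, hα⟩ := exists_integral_right hlr
  obtain ⟨E, b, hb, hcompat, hb0⟩ := IsoTriv.exists_smooth_levels I (formBC (A := A) α)
    (by rw [Algebra.TensorProduct.one_def, formBC_tmul, hα1, one_smul])
    (fun y => sliceR_formBC α hα y) φ₀
  refine ⟨b, fun n x y => ?_, fun n r x => ?_, fun n x y => ?_, fun n => ?_, ?_, fun n c => ?_,
    fun n c => (mem_smul_top_iff_map _ _).2 (hcompat n c), fun c => ?_⟩
  · rw [← one_tmul_eq_iff', ← hb, TensorProduct.tmul_add, map_add, hb, hb, TensorProduct.tmul_add]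
  · rw [← one_tmul_eq_iff', ← hb, TensorProduct.tmul_smul, TensorProduct.tmul_smul]
    rw [← algebraMap_smul (A ⧸ I ^ (n + 1)) r, map_smul, hb, algebraMap_smul]
  · rw [← one_tmul_eq_iff', ← hb]
    calc E n (1 ⊗ₜ[A] (x * y)) = E n ((1 ⊗ₜ[A] x) * (1 ⊗ₜ[A] y)) := by
          rw [Algebra.TensorProduct.tmul_mul_tmul, mul_one]
      _ = _ := by rw [map_mul, hb, hb, Algebra.TensorProduct.tmul_mul_tmul, mul_one]
  · rw [← one_tmul_eq_iff', ← hb]
    exact map_one (E n)
  · intro n ι s x y c hc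
    let g : B →ₐ[A] (A ⧸ I ^ (n + 1)) ⊗[A] (A ⊗[L] H) :=
      ((E n : (A ⧸ I ^ (n + 1)) ⊗[A] B →ₐ[A ⧸ I ^ (n + 1)] _).restrictScalars A).comp
        Algebra.TensorProduct.includeRight
    have hg : ∀ c, g c = 1 ⊗ₜ[A] b n c := hb n
    have hd : IsoTriv.defect g c = 0 := by
      apply (TensorProduct.AlgebraTensorModule.distribBaseChange A (A ⧸ I ^ (n + 1))
        (A ⊗[L] H) (A ⊗[L] H)).injective
      rw [IsoTriv.distrib_defect g (E n) (fun _ => rfl), map_zero, sub_eq_zero]
      exact CoalgHomClass.map_comp_comul_apply (E n) _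
    rw [IsoTriv.defect, sub_eq_zero, hc, map_sum] at hd
    simp only [Algebra.TensorProduct.lift_tmul, AlgHom.comp_apply, hg, IsoTriv.twoL, IsoTriv.twoR,
      Algebra.TensorProduct.map_tmul, AlgHom.id_apply, Algebra.TensorProduct.includeLeft_apply,
      Algebra.TensorProduct.includeRight_apply, Algebra.TensorProduct.tmul_mul_tmul, mul_one,
      one_mul, Bialgebra.comulAlgHom_apply] at hd
    rw [← one_tmul_eq_iff', ← hd, TensorProduct.tmul_sum]
  · have h : Coalgebra.counit (R := A ⧸ I ^ (n + 1)) (E n (1 ⊗ₜ[A] c)) =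
        Coalgebra.counit (R := A ⧸ I ^ (n + 1)) ((1 : A ⧸ I ^ (n + 1)) ⊗ₜ[A] c) :=
      CoalgHomClass.counit_comp_apply (E n) _
    rw [hb, TensorProduct.counit_tmul, TensorProduct.counit_tmul, CommSemiring.counit_apply,
      Algebra.smul_def, Algebra.smul_def, mul_one, mul_one] at h
    exact Ideal.Quotient.eq.1 h
  · have h := (hb0 c).symm.trans (hφ₀ c)
    exact (one_tmul_eq_iff' _ _ _).1 h

variable {I} {b : ℕ → B → A ⊗[L] H} {π : B → H} (hb : Levels I b π)

include hb

theorem Levels.base_n (n : ℕ) (c : B) :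
    b n c - (1 : A) ⊗ₜ[L] π c ∈ I • (⊤ : Submodule A (A ⊗[L] H)) := by
  induction n with
  | zero => exact hb.base c
  | succ n ih =>
    rw [show b (n + 1) c - (1 : A) ⊗ₜ[L] π c = (b (n + 1) c - b n c) + (b n c - (1 : A) ⊗ₜ[L] π c) by abel]
    exact add_mem (Submodule.smul_mono (Ideal.pow_le_self n.succ_ne_zero) le_rfl (hb.step n c)) ih

theorem Levels.step_le {m n : ℕ} (h : m ≤ n) (c : B) :
    b n c - b m c ∈ I ^ (m + 1) • (⊤ : Submodule A (A ⊗[L] H)) := by
  induction n, h using Nat.le_induction with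
  | base => simp
  | succ n hmn ih =>
    rw [show b (n + 1) c - b m c = (b (n + 1) c - b n c) + (b n c - b m c) by abel]
    exact add_mem (Submodule.smul_mono (Ideal.pow_le_pow_right (by omega)) le_rfl (hb.step n c)) ih

/-- All levels of an element lie in one finite coideal, up to the level. -/
theorem Levels.exists_bound [IsNoetherianRing A] [Module.Flat A B] (hlr : IsLinearlyReductive L H)
    (c : B) :
    ∃ u : H →ₗ[L] L, (LinearMap.range (sliceL u ∘ₗ Coalgebra.comul (R := L) (A := H))).FG ∧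
      ∀ n, b n c - (sliceL u ∘ₗ Coalgebra.comul (R := L) (A := H)).baseChange A (b n c) ∈
        I ^ (n + 1) • (⊤ : Submodule A (A ⊗[L] H)) := by
  classical
  obtain ⟨m, w, x, hc, hx⟩ := exists_leftCoideal (A := A) c
  obtain ⟨u, hfg, hidem, hu, -⟩ := exists_proj hlr (Set.range fun p : Fin m × Fin m => π (x p.1 p.2))
    (Set.finite_range _)
  refine ⟨u, hfg, fun n => ?_⟩
  set p := sliceL u ∘ₗ Coalgebra.comul (R := L) (A := H) with hp
  let Q : A ⊗[L] H →ₗ[A] A ⊗[L] H := LinearMap.id - p.baseChange A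
  let v : H →ₗ[L] L := Coalgebra.counit - u
  have hQv : ∀ y, sliceL (formBC v) (Coalgebra.comul (R := A) y) = Q y := fun y => by
    rw [sliceL_formBC]
    have hεp : sliceL v ∘ₗ Coalgebra.comul (R := L) (A := H) = LinearMap.id - p := by
      refine LinearMap.ext fun a => ?_
      have h1 : sliceL v = (sliceL (Coalgebra.counit (R := L) (A := H)) - sliceL u :
          H ⊗[L] H →ₗ[L] H) := by
        simp [v, sliceL, LinearMap.rTensor_sub, LinearMap.comp_sub]
      rw [LinearMap.comp_apply, h1, LinearMap.sub_apply, LinearMap.sub_apply, LinearMap.id_apply]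
      congr 1
      show TensorProduct.lid L H ((Coalgebra.counit (R := L)).rTensor H (Coalgebra.comul (R := L) a)) = a
      rw [Coalgebra.rTensor_counit_comul]
      simp
    simp [hεp, Q, LinearMap.baseChange_sub]
  have hQQ : ∀ y, Q (Q y) = Q y := fun y => by
    have : p.baseChange A (p.baseChange A y) = p.baseChange A y := by
      rw [← LinearMap.comp_apply, ← LinearMap.baseChange_comp]
      congr 2
      exact LinearMap.ext hidem
    simp [Q, this]
  have hvI : ∀ j i, formBC v (b n (x j i)) ∈ I := fun j i => by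
    have h1 := mem_of_mem_smul_top_self
      (map_mem_smul_top (formBC (A := A) v) (hb.base_n n (x j i)))
    rwa [map_sub, formBC_tmul, show v (π (x j i)) = 0 by
      simp [v, hu _ ⟨(j, i), rfl⟩], zero_smul, sub_zero] at h1
  have hz : ∀ j, Q (b n (w j)) - ∑ i, formBC v (b n (x j i)) • Q (b n (w i)) ∈
      I ^ (n + 1) • (⊤ : Submodule A (A ⊗[L] H)) := by
    intro j
    have hxj : Coalgebra.comul (R := A) (w j) =
        ∑ i : ULift.{u} (Fin m), x j i.down ⊗ₜ[A] w i.down :=
      (hx j).trans (Equiv.ulift.sum_comp fun i => x j i ⊗ₜ[A] w i).symm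
    have h := map_mem_smul_top (Q ∘ₗ sliceL (formBC (A := A) v))
      (hb.comul n Finset.univ _ _ (w j) hxj)
    rw [map_sub, map_sum, LinearMap.comp_apply, hQv, hQQ] at h
    rw [show ∑ i, formBC (A := A) v (b n (x j i)) • Q (b n (w i)) =
      ∑ i : ULift.{u} (Fin m), formBC (A := A) v (b n (x j i.down)) • Q (b n (w i.down)) from
      (Fintype.sum_equiv Equiv.ulift _ _ fun _ => rfl).symm]
    simpa only [LinearMap.comp_apply, sliceL_tmul, map_smul] using h
  have hk : ∀ k ≤ n + 1, ∀ j, Q (b n (w j)) ∈ I ^ k • (⊤ : Submodule A (A ⊗[L] H)) := by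
    intro k
    induction k with
    | zero =>
      intro _ j
      rw [pow_zero, Ideal.one_eq_top, Submodule.top_smul]
      trivial
    | succ k ih =>
      intro hk j
      have h1 := Submodule.smul_mono (Ideal.pow_le_pow_right hk) le_rfl (hz j)
      have h2 : ∑ i, formBC v (b n (x j i)) • Q (b n (w i)) ∈
          I ^ (k + 1) • (⊤ : Submodule A (A ⊗[L] H)) :=
        Submodule.sum_mem _ fun i _ => smul_mem_pow_succ (hvI j i) (ih (by omega) i)
      simpa using add_mem h1 h2
  obtain ⟨r, hr⟩ := (Submodule.mem_span_range_iff_exists_fun A).1 hc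
  have hlin : b n c - ∑ i, r i • b n (w i) ∈ I ^ (n + 1) • (⊤ : Submodule A (A ⊗[L] H)) := by
    rw [← hr]
    generalize (Finset.univ : Finset (Fin m)) = s
    induction s using Finset.induction_on with
    | empty =>
      have h0 := hb.smul n 0 0
      simpa using h0
    | insert i s hi ih =>
      rw [Finset.sum_insert hi, Finset.sum_insert hi]
      rw [show b n (r i • w i + ∑ x ∈ s, r x • w x) - (r i • b n (w i) + ∑ x ∈ s, r x • b n (w x)) =
        (b n (r i • w i + ∑ x ∈ s, r x • w x) - (b n (r i • w i) + b n (∑ x ∈ s, r x • w x))) +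
        (b n (r i • w i) - r i • b n (w i)) +
        (b n (∑ x ∈ s, r x • w x) - ∑ x ∈ s, r x • b n (w x)) by abel]
      exact add_mem (add_mem (hb.add n _ _) (hb.smul n _ _)) ih
  have h1 := map_mem_smul_top Q hlin
  rw [map_sub, map_sum] at h1
  have h2 : ∑ i, Q (r i • b n (w i)) ∈ I ^ (n + 1) • (⊤ : Submodule A (A ⊗[L] H)) :=
    Submodule.sum_mem _ fun i _ => by
      rw [map_smul]; exact Submodule.smul_mem _ _ (hk (n + 1) le_rfl i)
  simpa [Q] using add_mem h1 h2

/-- The levels converge. -/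
theorem Levels.exists_limit [IsNoetherianRing A] [Module.Flat A B] [IsPrecomplete I A]
    (hlr : IsLinearlyReductive L H) (c : B) :
    ∃ y : A ⊗[L] H, ∀ n, y - b n c ∈ I ^ n • (⊤ : Submodule A (A ⊗[L] H)) := by
  obtain ⟨u, hfg, hu⟩ := hb.exists_bound hlr c
  set p := sliceL u ∘ₗ Coalgebra.comul (R := L) (A := H)
  have : Module.Finite L (LinearMap.range p) := Module.Finite.iff_fg.2 hfg
  let e := Module.finBasis L (LinearMap.range p)
  let E := e.baseChange A
  let r : A ⊗[L] H →ₗ[A] A ⊗[L] (LinearMap.range p) := p.rangeRestrict.baseChange A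
  let ι : A ⊗[L] (LinearMap.range p) →ₗ[A] A ⊗[L] H := (LinearMap.range p).subtype.baseChange A
  have hι : ∀ y, ι (r y) = p.baseChange A y := fun y => by
    rw [← LinearMap.comp_apply, ← LinearMap.baseChange_comp]
    rfl
  let f : ℕ → Fin (Module.finrank L (LinearMap.range p)) → A := fun n i => E.coord i (r (b n c))
  have hlim : ∀ i, ∃ l : A, ∀ n, f n i ≡ l [SMOD (I ^ n • ⊤ : Submodule A A)] := fun i =>
    IsPrecomplete.prec ‹IsPrecomplete I A› fun {m n} hmn => by
      rw [SModEq.sub_mem, ← neg_sub]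
      refine neg_mem ?_
      simp only [f, ← map_sub]
      exact Submodule.smul_mono (Ideal.pow_le_pow_right m.le_succ) le_rfl
        (map_mem_smul_top (E.coord i ∘ₗ r) (hb.step_le hmn c))
  choose l hl using hlim
  refine ⟨ι (∑ i, l i • E i), fun n => ?_⟩
  have h1 : ι (∑ i, l i • E i) - ι (r (b n c)) ∈ I ^ n • (⊤ : Submodule A (A ⊗[L] H)) := by
    rw [← map_sub]
    refine map_mem_smul_top ι ?_
    conv =>
      enter [2, 2]
      rw [← E.sum_repr (r (b n c))]
    rw [← Finset.sum_sub_distrib]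
    refine Submodule.sum_mem _ fun i _ => ?_
    rw [show l i • E i - E.repr (r (b n c)) i • E i = (l i - f n i) • E i from (sub_smul _ _ _).symm]
    refine Submodule.smul_mem_smul ?_ trivial
    have := mem_of_mem_smul_top_self (SModEq.sub_mem.1 (hl i n).symm)
    exact this
  have h2 : b n c - ι (r (b n c)) ∈ I ^ n • (⊤ : Submodule A (A ⊗[L] H)) := by
    rw [hι]
    exact Submodule.smul_mono (Ideal.pow_le_pow_right n.le_succ) le_rfl (hu n)
  simpa using sub_mem h1 h2

set_option maxHeartbeats 1000000 in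
/-- The limit homomorphism. -/
theorem Levels.exists_hom [IsNoetherianRing A] [Module.Flat A B] [IsAdicComplete I A]
    (hlr : IsLinearlyReductive L H) :
    ∃ φ : B →ₐc[A] A ⊗[L] H, ∀ c, φ c - (1 : A) ⊗ₜ[L] π c ∈ I • (⊤ : Submodule A (A ⊗[L] H)) := by
  choose φ hφ using hb.exists_limit hlr
  have huniq : ∀ (c : B) (y : A ⊗[L] H), (∀ n, y - b n c ∈ I ^ n • (⊤ : Submodule A (A ⊗[L] H))) →
      φ c = y := fun c y hy => eq_of_forall_sub_mem (I := I) fun n => by
    simpa using sub_mem (hφ c n) (hy n)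
  have hle : ∀ {n : ℕ}, I ^ (n + 1) • (⊤ : Submodule A (A ⊗[L] H)) ≤ I ^ n • ⊤ := fun {n} =>
    Submodule.smul_mono (Ideal.pow_le_pow_right n.le_succ) le_rfl
  have hadd : ∀ x y, φ (x + y) = φ x + φ y := fun x y => huniq _ _ fun n => by
    have := sub_mem (add_mem (hφ x n) (hφ y n)) (hle (hb.add n x y))
    convert this using 1; abel
  have hsmul : ∀ (r : A) x, φ (r • x) = r • φ x := fun r x => huniq _ _ fun n => by
    have := sub_mem (Submodule.smul_mem _ r (hφ x n)) (hle (hb.smul n r x))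
    convert this using 1; rw [smul_sub]; abel
  have hone : φ 1 = 1 := huniq _ _ fun n => by
    have := neg_mem (hle (hb.one n)); simpa using this
  have hmul : ∀ x y, φ (x * y) = φ x * φ y := fun x y => huniq _ _ fun n => by
    rw [show φ x * φ y - b n (x * y) = (φ x - b n x) * φ y + b n x * (φ y - b n y) -
      (b n (x * y) - b n x * b n y) by ring]
    refine sub_mem (add_mem ?_ ?_) (hle (hb.mul n x y))
    · exact map_mem_smul_top (LinearMap.mulRight A (φ y)) (hφ x n)
    · exact map_mem_smul_top (LinearMap.mulLeft A (b n x)) (hφ y n)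
  let φl : B →ₗ[A] A ⊗[L] H := { toFun := φ, map_add' := hadd, map_smul' := hsmul }
  let φa : B →ₐ[A] A ⊗[L] H := AlgHom.ofLinearMap φl hone hmul
  have hcounit : ∀ c, Coalgebra.counit (R := A) (φ c) = Coalgebra.counit (R := A) c := fun c => by
    refine sub_eq_zero.1 (IsHausdorff.haus (I := I) (inferInstance : IsHausdorff I A) _ fun n => ?_)
    rw [SModEq.zero, show Coalgebra.counit (R := A) (φ c) - Coalgebra.counit (R := A) c =
      Coalgebra.counit (R := A) (φ c - b n c) +
        (Coalgebra.counit (R := A) (b n c) - Coalgebra.counit (R := A) c) by rw [map_sub]; ring]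
    refine add_mem (map_mem_smul_top _ (hφ c n)) ?_
    simpa using Ideal.pow_le_pow_right n.le_succ (hb.counit n c)
  have hcomul : ∀ c, TensorProduct.map φl φl (Coalgebra.comul (R := A) c) =
      Coalgebra.comul (R := A) (φ c) := fun c => by
    obtain ⟨s, hs⟩ := TensorProduct.exists_finset (Coalgebra.comul (R := A) c)
    refine eq_of_forall_sub_mem (I := I) fun n => ?_
    rw [hs, map_sum]
    simp only [TensorProduct.map_tmul]
    rw [show ∑ i ∈ s, φl i.1 ⊗ₜ[A] φl i.2 - Coalgebra.comul (R := A) (φ c) =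
      ∑ i ∈ s, ((φ i.1 - b n i.1) ⊗ₜ[A] φ i.2 + b n i.1 ⊗ₜ[A] (φ i.2 - b n i.2)) -
        (Coalgebra.comul (R := A) (b n c) - ∑ i ∈ s, b n i.1 ⊗ₜ[A] b n i.2) -
        Coalgebra.comul (R := A) (φ c - b n c) by
      simp only [TensorProduct.sub_tmul, TensorProduct.tmul_sub, Finset.sum_add_distrib,
        Finset.sum_sub_distrib, map_sub]
      show ∑ i ∈ s, φ i.1 ⊗ₜ[A] φ i.2 - _ = _
      abel]
    refine sub_mem (sub_mem (Submodule.sum_mem _ fun i _ => add_mem
      (tmul_mem_smul_top_left (hφ i.1 n) _) (tmul_mem_smul_top_right _ (hφ i.2 n))) ?_)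
      (map_mem_smul_top _ (hφ c n))
    exact Submodule.smul_mono (Ideal.pow_le_pow_right n.le_succ) le_rfl
      (hb.comul n (ι := B × B) s (fun i => i.1) (fun i => i.2) c hs)
  refine ⟨BialgHom.ofAlgHom φa (AlgHom.ext hcounit) (AlgHom.ext hcomul), fun c => ?_⟩
  show φ c - _ ∈ _
  rw [show φ c - (1 : A) ⊗ₜ[L] π c = (φ c - b 1 c) + (b 1 c - (1 : A) ⊗ₜ[L] π c) by abel]
  refine add_mem ?_ (hb.base_n 1 c)
  simpa using hφ c 1

end Groth.Agent.LRTriv
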